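import Groth.Prelude.Def_CycAlg
import Mathlib

set_option autoImplicit false
universe u v

open CycAlg

namespace Groth.Agent.CycAlg8

variable {R : Type u} [CommRing R]

section length

variable {A B C : Type v} [AddCommGroup A] [Module R A] [AddCommGroup B] [Module R B] [AddCommGroup C] [Module R C]

theorem len_eq_ker_add_range (f : A →ₗ[R] B) :
    Module.length R A = Module.length R (LinearMap.ker f) + Module.length R (LinearMap.range f) :=
  Module.length_eq_add_of_exact (LinearMap.ker f).subtype f.rangeRestrict (LinearMap.ker f).injective_subtype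
    f.surjective_rangeRestrict (LinearMap.exact_iff.mpr (by rw [LinearMap.ker_rangeRestrict, Submodule.range_subtype]))

theorem len_exact (f : A →ₗ[R] B) (g : B →ₗ[R] C) (h : LinearMap.ker g = LinearMap.range f) :
    Module.length R B = Module.length R (LinearMap.range f) + Module.length R (LinearMap.range g) := by
  rw [len_eq_ker_add_range g, h]

theorem len_quot (q : Submodule R A) : Module.length R A = Module.length R q + Module.length R (A ⧸ q) :=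
  Module.length_eq_add_of_exact q.subtype q.mkQ q.injective_subtype q.mkQ_surjective
    (LinearMap.exact_subtype_mkQ q)

theorem len_range_le_left (f : A →ₗ[R] B) : Module.length R (LinearMap.range f) ≤ Module.length R A := by
  rw [len_eq_ker_add_range f]; exact le_add_self

theorem len_sub_le (q : Submodule R A) : Module.length R q ≤ Module.length R A := by
  rw [len_quot q]; exact le_self_add

theorem len_range_le_right (f : A →ₗ[R] B) : Module.length R (LinearMap.range f) ≤ Module.length R B :=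
  len_sub_le _

theorem lt_top_of_exact (f : A →ₗ[R] B) (g : B →ₗ[R] C) (h : LinearMap.ker g = LinearMap.range f)
    (hA : Module.length R A < ⊤) (hC : Module.length R C < ⊤) : Module.length R B < ⊤ := by
  rw [len_exact f g h, ENat.add_lt_top]
  exact ⟨(len_range_le_left f).trans_lt hA, (len_range_le_right g).trans_lt hC⟩

theorem toNat_exact (f : A →ₗ[R] B) (g : B →ₗ[R] C) (h : LinearMap.ker g = LinearMap.range f)
    (hA : Module.length R A < ⊤) (hC : Module.length R C < ⊤) :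
    (Module.length R B).toNat =
      (Module.length R (LinearMap.range f)).toNat + (Module.length R (LinearMap.range g)).toNat := by
  rw [len_exact f g h, ENat.toNat_add ((len_range_le_left f).trans_lt hA).ne ((len_range_le_right g).trans_lt hC).ne]

end length

/-- Six modules in an exact hexagon. -/
theorem hexagon {A B C D E F : Type v} [AddCommGroup A] [Module R A] [AddCommGroup B] [Module R B]
    [AddCommGroup C] [Module R C] [AddCommGroup D] [Module R D] [AddCommGroup E] [Module R E]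
    [AddCommGroup F] [Module R F] (a : A →ₗ[R] B) (b : B →ₗ[R] C) (c : C →ₗ[R] D) (d : D →ₗ[R] E)
    (e : E →ₗ[R] F) (f : F →ₗ[R] A)
    (h1 : LinearMap.ker b = LinearMap.range a) (h2 : LinearMap.ker c = LinearMap.range b)
    (h3 : LinearMap.ker d = LinearMap.range c) (h4 : LinearMap.ker e = LinearMap.range d)
    (h5 : LinearMap.ker f = LinearMap.range e) (h6 : LinearMap.ker a = LinearMap.range f)
    (hA : Module.length R A < ⊤) (hB : Module.length R B < ⊤) (hC : Module.length R C < ⊤)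
    (hD : Module.length R D < ⊤) (hE : Module.length R E < ⊤) (hF : Module.length R F < ⊤) :
    ((Module.length R A).toNat : ℤ) - (Module.length R B).toNat + (Module.length R C).toNat
      - (Module.length R D).toNat + (Module.length R E).toNat - (Module.length R F).toNat = 0 := by
  rw [toNat_exact a b h1 hA hC, toNat_exact b c h2 hB hD, toNat_exact c d h3 hC hE, toNat_exact d e h4 hD hF,
    toNat_exact e f h5 hE hA, toNat_exact f a h6 hF hB]
  push_cast; ring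

section perH

variable {M N M' N' M'' N'' : Type v} [AddCommGroup M] [Module R M] [AddCommGroup N] [Module R N]
  [AddCommGroup M'] [Module R M'] [AddCommGroup N'] [Module R N']
  [AddCommGroup M''] [Module R M''] [AddCommGroup N''] [Module R N'']

/-- The class of a cycle. -/
def cls (φ : M →ₗ[R] N) (ψ : N →ₗ[R] M) (x : M) (hx : φ x = 0) : perH φ ψ :=
  Submodule.Quotient.mk (⟨x, hx⟩ : LinearMap.ker φ)

theorem cls_surj {φ : M →ₗ[R] N} {ψ : N →ₗ[R] M} (z : perH φ ψ) : ∃ x hx, cls φ ψ x hx = z := by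
  obtain ⟨⟨x, hx⟩, rfl⟩ := Submodule.Quotient.mk_surjective _ z
  exact ⟨x, hx, rfl⟩

theorem cls_eq_zero {φ : M →ₗ[R] N} {ψ : N →ₗ[R] M} {x : M} {hx : φ x = 0} :
    cls φ ψ x hx = 0 ↔ ∃ y, ψ y = x :=
  (Submodule.Quotient.mk_eq_zero _).trans Iff.rfl

theorem cls_eq_cls {φ : M →ₗ[R] N} {ψ : N →ₗ[R] M} {x x' : M} {hx : φ x = 0} {hx' : φ x' = 0} :
    cls φ ψ x hx = cls φ ψ x' hx' ↔ ∃ y, ψ y = x - x' :=
  (Submodule.Quotient.eq _).trans Iff.rfl

/-- The map on periodic cohomology induced by a map `f` of the middle term. -/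
def perMap (φ : M →ₗ[R] N) (ψ : N →ₗ[R] M) (φ' : M' →ₗ[R] N') (ψ' : N' →ₗ[R] M') (f : M →ₗ[R] M')
    (h1 : ∀ x, φ x = 0 → φ' (f x) = 0) (h2 : ∀ y, φ (ψ y) = 0 → ∃ y', ψ' y' = f (ψ y)) :
    perH φ ψ →ₗ[R] perH φ' ψ' :=
  Submodule.mapQ _ _ (f.restrict fun x hx => h1 x hx) (by
    rintro ⟨x, hx⟩ ⟨y, rfl⟩
    exact h2 y hx)

theorem perMap_cls (φ : M →ₗ[R] N) (ψ : N →ₗ[R] M) (φ' : M' →ₗ[R] N') (ψ' : N' →ₗ[R] M') (f : M →ₗ[R] M')
    (h1 : ∀ x, φ x = 0 → φ' (f x) = 0) (h2 : ∀ y, φ (ψ y) = 0 → ∃ y', ψ' y' = f (ψ y)) (x : M) (hx : φ x = 0) :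
    perMap φ ψ φ' ψ' f h1 h2 (cls φ ψ x hx) = cls φ' ψ' (f x) (h1 x hx) := rfl

theorem length_perH_eq (φ : M →ₗ[R] N) (ψ : N →ₗ[R] M) (h : φ ∘ₗ ψ = 0) :
    Module.length R (LinearMap.ker φ) = Module.length R (LinearMap.range ψ) + Module.length R (perH φ ψ) := by
  rw [len_quot ((LinearMap.range ψ).submoduleOf (LinearMap.ker φ)),
    (Submodule.submoduleOfEquivOfLe (LinearMap.range_le_ker_iff.mpr h)).length_eq]

theorem finite_length_case (φ : M →ₗ[R] N) (ψ : N →ₗ[R] M) (h : IsPeriodic φ ψ)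
    (hM : Module.length R M < ⊤) (hN : Module.length R N < ⊤) :
    FinCoh R φ ψ ∧ herbrand R φ ψ = ((Module.length R M).toNat : ℤ) - ((Module.length R N).toNat : ℤ) := by
  have a := length_perH_eq φ ψ h.1
  have b := length_perH_eq ψ φ h.2
  have hk1 : Module.length R (LinearMap.ker φ) < ⊤ := (len_sub_le _).trans_lt hM
  have hk2 : Module.length R (LinearMap.ker ψ) < ⊤ := (len_sub_le _).trans_lt hN
  have a' := hk1; rw [a, ENat.add_lt_top] at a'
  have b' := hk2; rw [b, ENat.add_lt_top] at b'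
  refine ⟨⟨a'.2, b'.2⟩, ?_⟩
  rw [herbrand, len_eq_ker_add_range φ, len_eq_ker_add_range ψ, a, b,
    ENat.toNat_add (ENat.add_lt_top.mpr a').ne b'.1.ne, ENat.toNat_add (ENat.add_lt_top.mpr b').ne a'.1.ne,
    ENat.toNat_add a'.1.ne a'.2.ne, ENat.toNat_add b'.1.ne b'.2.ne]
  push_cast; ring

/-- Data of a short exact sequence of two-periodic complexes (one half). -/
theorem three (φ₁ : M →ₗ[R] N) (ψ₁ : N →ₗ[R] M) (φ₂ : M' →ₗ[R] N') (ψ₂ : N' →ₗ[R] M')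
    (φ₃ : M'' →ₗ[R] N'') (ψ₃ : N'' →ₗ[R] M'') (h₂ : IsPeriodic φ₂ ψ₂)
    (f₁ : M →ₗ[R] M') (g₁ : N →ₗ[R] N') (f₂ : M' →ₗ[R] M'') (g₂ : N' →ₗ[R] N'')
    (cφ₁ : φ₂ ∘ₗ f₁ = g₁ ∘ₗ φ₁) (cψ₁ : ψ₂ ∘ₗ g₁ = f₁ ∘ₗ ψ₁)
    (cφ₂ : φ₃ ∘ₗ f₂ = g₂ ∘ₗ φ₂) (cψ₂ : ψ₃ ∘ₗ g₂ = f₂ ∘ₗ ψ₂)
    (hf₁ : Function.Injective f₁) (hg₁ : Function.Injective g₁) (hf₂ : Function.Surjective f₂)
    (hg₂ : Function.Surjective g₂) (hM : LinearMap.range f₁ = LinearMap.ker f₂)
    (hN : LinearMap.range g₁ = LinearMap.ker g₂) :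
    ∃ δ : perH φ₃ ψ₃ →ₗ[R] perH ψ₁ φ₁,
      ∀ (a₁ : ∀ x, φ₁ x = 0 → φ₂ (f₁ x) = 0) (b₁ : ∀ y, φ₁ (ψ₁ y) = 0 → ∃ y', ψ₂ y' = f₁ (ψ₁ y))
        (a₂ : ∀ x, φ₂ x = 0 → φ₃ (f₂ x) = 0) (b₂ : ∀ y, φ₂ (ψ₂ y) = 0 → ∃ y', ψ₃ y' = f₂ (ψ₂ y))
        (c₁ : ∀ x, ψ₁ x = 0 → ψ₂ (g₁ x) = 0) (d₁ : ∀ y, ψ₁ (φ₁ y) = 0 → ∃ y', φ₂ y' = g₁ (φ₁ y)),
        LinearMap.ker (perMap φ₂ ψ₂ φ₃ ψ₃ f₂ a₂ b₂) = LinearMap.range (perMap φ₁ ψ₁ φ₂ ψ₂ f₁ a₁ b₁) ∧
        LinearMap.ker δ = LinearMap.range (perMap φ₂ ψ₂ φ₃ ψ₃ f₂ a₂ b₂) ∧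
        LinearMap.ker (perMap ψ₁ φ₁ ψ₂ φ₂ g₁ c₁ d₁) = LinearMap.range δ := by
  have eφ₁ : ∀ x, φ₂ (f₁ x) = g₁ (φ₁ x) := fun x => LinearMap.congr_fun cφ₁ x
  have eψ₁ : ∀ x, ψ₂ (g₁ x) = f₁ (ψ₁ x) := fun x => LinearMap.congr_fun cψ₁ x
  have eφ₂ : ∀ x, φ₃ (f₂ x) = g₂ (φ₂ x) := fun x => LinearMap.congr_fun cφ₂ x
  have eψ₂ : ∀ x, ψ₃ (g₂ x) = f₂ (ψ₂ x) := fun x => LinearMap.congr_fun cψ₂ x
  have eM : ∀ x, f₂ (f₁ x) = 0 := fun x => LinearMap.mem_ker.mp (hM ▸ LinearMap.mem_range_self f₁ x)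
  let S : Submodule R M' := (LinearMap.ker φ₃).comap f₂
  let eg : N ≃ₗ[R] LinearMap.range g₁ := LinearEquiv.ofInjective g₁ hg₁
  have hS : ∀ s : S, φ₂ (s : M') ∈ LinearMap.range g₁ := fun s => by
    rw [hN, LinearMap.mem_ker, ← eφ₂]; exact s.2
  let n : S →ₗ[R] N := eg.symm.toLinearMap ∘ₗ (φ₂ ∘ₗ S.subtype).codRestrict _ hS
  have hn : ∀ s : S, g₁ (n s) = φ₂ (s : M') := fun s =>
    (LinearEquiv.ofInjective_apply (f := g₁) (h := hg₁) (n s)).symm.trans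
      (congrArg Subtype.val (eg.apply_symm_apply _))
  have hn0 : ∀ s : S, ψ₁ (n s) = 0 := fun s => hf₁ (by
    rw [← eψ₁, hn, map_zero]; exact LinearMap.congr_fun h₂.2 _)
  let d : S →ₗ[R] perH ψ₁ φ₁ := Submodule.mkQ _ ∘ₗ n.codRestrict (LinearMap.ker ψ₁) hn0
  let q : S →ₗ[R] perH φ₃ ψ₃ := Submodule.mkQ _ ∘ₗ f₂.restrict (p := S) (q := LinearMap.ker φ₃) fun x hx => hx
  have hq : Function.Surjective q := by
    intro z
    obtain ⟨x, hx, rfl⟩ := cls_surj z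
    obtain ⟨m, rfl⟩ := hf₂ x
    exact ⟨⟨m, hx⟩, rfl⟩
  have hd : ∀ s : S, d s = cls ψ₁ φ₁ (n s) (hn0 s) := fun s => rfl
  have hq' : ∀ s : S, q s = cls φ₃ ψ₃ (f₂ (s : M')) s.2 := fun s => rfl
  have hker : LinearMap.ker q ≤ LinearMap.ker d := by
    intro s hs
    rw [LinearMap.mem_ker, hq', cls_eq_zero] at hs
    rw [LinearMap.mem_ker, hd, cls_eq_zero]
    obtain ⟨y, hy⟩ := hs
    obtain ⟨y', rfl⟩ := hg₂ y
    rw [eψ₂] at hy
    obtain ⟨m, hm⟩ := (hM ▸ (by simp [LinearMap.mem_ker, hy]) : (s : M') - ψ₂ y' ∈ LinearMap.range f₁)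
    refine ⟨m, hg₁ ?_⟩
    rw [← eφ₁, hn, hm, map_sub, show φ₂ (ψ₂ y') = 0 from LinearMap.congr_fun h₂.1 y', sub_zero]
  let δ : perH φ₃ ψ₃ →ₗ[R] perH ψ₁ φ₁ :=
    (LinearMap.ker q).liftQ d hker ∘ₗ (q.quotKerEquivOfSurjective hq).symm.toLinearMap
  have hδ : ∀ s : S, δ (q s) = d s := fun s => by
    show (LinearMap.ker q).liftQ d hker ((q.quotKerEquivOfSurjective hq).symm (q s)) = d s
    rw [LinearMap.quotKerEquivOfSurjective_symm_apply, Submodule.liftQ_apply]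
  refine ⟨δ, fun a₁ b₁ a₂ b₂ c₁ d₁ => ⟨?_, ?_, ?_⟩⟩
  · ext z
    obtain ⟨x, hx, rfl⟩ := cls_surj z
    rw [LinearMap.mem_ker, perMap_cls, cls_eq_zero]
    constructor
    · rintro ⟨y, hy⟩
      obtain ⟨y', rfl⟩ := hg₂ y
      rw [eψ₂] at hy
      obtain ⟨m, hm⟩ := (hM ▸ (by simp [LinearMap.mem_ker, hy]) : x - ψ₂ y' ∈ LinearMap.range f₁)
      have hm0 : φ₁ m = 0 := hg₁ (by
        rw [← eφ₁, hm, map_sub, hx, show φ₂ (ψ₂ y') = 0 from LinearMap.congr_fun h₂.1 y', sub_zero, map_zero])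
      refine ⟨cls φ₁ ψ₁ m hm0, ?_⟩
      rw [perMap_cls, cls_eq_cls]
      exact ⟨-y', by rw [map_neg, hm]; abel⟩
    · rintro ⟨w, hw⟩
      obtain ⟨m, hm0, rfl⟩ := cls_surj w
      rw [perMap_cls, cls_eq_cls] at hw
      obtain ⟨y, hy⟩ := hw
      refine ⟨-g₂ y, ?_⟩
      rw [map_neg, eψ₂, hy, map_sub, eM]; abel
  · ext z
    constructor
    · intro hz
      obtain ⟨s, rfl⟩ := hq z
      rw [LinearMap.mem_ker, hδ, hd, cls_eq_zero] at hz
      obtain ⟨m, hm⟩ := hz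
      have h0 : φ₂ ((s : M') - f₁ m) = 0 := by rw [map_sub, eφ₁, hm, hn, sub_self]
      refine ⟨cls φ₂ ψ₂ _ h0, ?_⟩
      rw [perMap_cls, hq', cls_eq_cls]
      exact ⟨0, by rw [map_zero, map_sub, eM]; abel⟩
    · rintro ⟨w, rfl⟩
      obtain ⟨x, hx, rfl⟩ := cls_surj w
      rw [LinearMap.mem_ker, perMap_cls]
      have hs : x ∈ S := a₂ x hx
      rw [show cls φ₃ ψ₃ (f₂ x) (a₂ x hx) = q ⟨x, hs⟩ from rfl, hδ, hd, cls_eq_zero]
      exact ⟨0, hg₁ (by rw [hn, map_zero, map_zero]; exact hx.symm)⟩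
  · ext z
    constructor
    · intro hz
      obtain ⟨x, hx, rfl⟩ := cls_surj z
      rw [LinearMap.mem_ker, perMap_cls, cls_eq_zero] at hz
      obtain ⟨m, hm⟩ := hz
      have hs : m ∈ S := by
        show φ₃ (f₂ m) = 0
        rw [eφ₂, hm, ← LinearMap.mem_ker, ← hN]
        exact LinearMap.mem_range_self _ _
      refine ⟨q ⟨m, hs⟩, ?_⟩
      rw [hδ, hd, cls_eq_cls]
      exact ⟨0, by rw [map_zero, hg₁ (show g₁ (n ⟨m, hs⟩) = g₁ x by rw [hn]; exact hm), sub_self]⟩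
    · rintro ⟨w, rfl⟩
      obtain ⟨s, rfl⟩ := hq w
      rw [LinearMap.mem_ker, hδ, hd, perMap_cls, cls_eq_zero]
      exact ⟨s, (hn s).symm⟩

theorem shortExact (φ₁ : M →ₗ[R] N) (ψ₁ : N →ₗ[R] M) (φ₂ : M' →ₗ[R] N') (ψ₂ : N' →ₗ[R] M')
    (φ₃ : M'' →ₗ[R] N'') (ψ₃ : N'' →ₗ[R] M'') (h₂ : IsPeriodic φ₂ ψ₂)
    (f₁ : M →ₗ[R] M') (g₁ : N →ₗ[R] N') (f₂ : M' →ₗ[R] M'') (g₂ : N' →ₗ[R] N'')
    (cφ₁ : φ₂ ∘ₗ f₁ = g₁ ∘ₗ φ₁) (cψ₁ : ψ₂ ∘ₗ g₁ = f₁ ∘ₗ ψ₁)
    (cφ₂ : φ₃ ∘ₗ f₂ = g₂ ∘ₗ φ₂) (cψ₂ : ψ₃ ∘ₗ g₂ = f₂ ∘ₗ ψ₂)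
    (hf₁ : Function.Injective f₁) (hg₁ : Function.Injective g₁) (hf₂ : Function.Surjective f₂)
    (hg₂ : Function.Surjective g₂) (hM : LinearMap.range f₁ = LinearMap.ker f₂)
    (hN : LinearMap.range g₁ = LinearMap.ker g₂)
    (htwo : (FinCoh R φ₁ ψ₁ ∧ FinCoh R φ₂ ψ₂) ∨ (FinCoh R φ₁ ψ₁ ∧ FinCoh R φ₃ ψ₃) ∨
      (FinCoh R φ₂ ψ₂ ∧ FinCoh R φ₃ ψ₃)) :
    FinCoh R φ₁ ψ₁ ∧ FinCoh R φ₂ ψ₂ ∧ FinCoh R φ₃ ψ₃ ∧
      herbrand R φ₂ ψ₂ = herbrand R φ₁ ψ₁ + herbrand R φ₃ ψ₃ := by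
  have eφ₁ : ∀ x, φ₂ (f₁ x) = g₁ (φ₁ x) := fun x => LinearMap.congr_fun cφ₁ x
  have eψ₁ : ∀ x, ψ₂ (g₁ x) = f₁ (ψ₁ x) := fun x => LinearMap.congr_fun cψ₁ x
  have eφ₂ : ∀ x, φ₃ (f₂ x) = g₂ (φ₂ x) := fun x => LinearMap.congr_fun cφ₂ x
  have eψ₂ : ∀ x, ψ₃ (g₂ x) = f₂ (ψ₂ x) := fun x => LinearMap.congr_fun cψ₂ x
  have a₁ : ∀ x, φ₁ x = 0 → φ₂ (f₁ x) = 0 := fun x hx => by rw [eφ₁, hx, map_zero]
  have b₁ : ∀ y, φ₁ (ψ₁ y) = 0 → ∃ y', ψ₂ y' = f₁ (ψ₁ y) := fun y _ => ⟨g₁ y, eψ₁ y⟩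
  have a₂ : ∀ x, φ₂ x = 0 → φ₃ (f₂ x) = 0 := fun x hx => by rw [eφ₂, hx, map_zero]
  have b₂ : ∀ y, φ₂ (ψ₂ y) = 0 → ∃ y', ψ₃ y' = f₂ (ψ₂ y) := fun y _ => ⟨g₂ y, eψ₂ y⟩
  have c₁ : ∀ x, ψ₁ x = 0 → ψ₂ (g₁ x) = 0 := fun x hx => by rw [eψ₁, hx, map_zero]
  have d₁ : ∀ y, ψ₁ (φ₁ y) = 0 → ∃ y', φ₂ y' = g₁ (φ₁ y) := fun y _ => ⟨f₁ y, eφ₁ y⟩
  have c₂ : ∀ x, ψ₂ x = 0 → ψ₃ (g₂ x) = 0 := fun x hx => by rw [eψ₂, hx, map_zero]
  have d₂ : ∀ y, ψ₂ (φ₂ y) = 0 → ∃ y', φ₃ y' = g₂ (φ₂ y) := fun y _ => ⟨f₂ y, eφ₂ y⟩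
  obtain ⟨δ, hδ⟩ := three φ₁ ψ₁ φ₂ ψ₂ φ₃ ψ₃ h₂ f₁ g₁ f₂ g₂ cφ₁ cψ₁ cφ₂ cψ₂ hf₁ hg₁ hf₂ hg₂ hM hN
  obtain ⟨ε, hε⟩ := three ψ₁ φ₁ ψ₂ φ₂ ψ₃ φ₃ ⟨h₂.2, h₂.1⟩ g₁ f₁ g₂ f₂ cψ₁ cφ₁ cψ₂ cφ₂ hg₁ hf₁ hg₂ hf₂ hN hM
  obtain ⟨e1, e2, e3⟩ := hδ a₁ b₁ a₂ b₂ c₁ d₁
  obtain ⟨e4, e5, e6⟩ := hε c₁ d₁ c₂ d₂ a₁ b₁
  have hfin : FinCoh R φ₁ ψ₁ ∧ FinCoh R φ₂ ψ₂ ∧ FinCoh R φ₃ ψ₃ := by
    rcases htwo with ⟨h, h'⟩ | ⟨h, h'⟩ | ⟨h, h'⟩
    · exact ⟨h, h', lt_top_of_exact _ _ e2 h'.1 h.2, lt_top_of_exact _ _ e5 h'.2 h.1⟩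
    · exact ⟨h, ⟨lt_top_of_exact _ _ e1 h.1 h'.1, lt_top_of_exact _ _ e4 h.2 h'.2⟩, h'⟩
    · exact ⟨⟨lt_top_of_exact _ _ e6 h'.2 h.1, lt_top_of_exact _ _ e3 h'.1 h.2⟩, h, h'⟩
  obtain ⟨⟨u1, v1⟩, ⟨u2, v2⟩, ⟨u3, v3⟩⟩ := hfin
  refine ⟨⟨u1, v1⟩, ⟨u2, v2⟩, ⟨u3, v3⟩, ?_⟩
  have := hexagon _ _ _ _ _ _ e1 e2 e3 e4 e5 e6 u1 u2 u3 v1 v2 v3
  simp only [herbrand]
  linarith

end perH

theorem ker_coker {M M' : Type v} [AddCommGroup M] [Module R M] [AddCommGroup M'] [Module R M']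
    (φ ψ : M →ₗ[R] M) (φ' ψ' : M' →ₗ[R] M') (h : IsPeriodic φ ψ) (h' : IsPeriodic φ' ψ')
    (f : M →ₗ[R] M') (cφ : φ' ∘ₗ f = f ∘ₗ φ) (cψ : ψ' ∘ₗ f = f ∘ₗ ψ)
    (hfin : FinCoh R φ ψ) (hfin' : FinCoh R φ' ψ')
    (hker : Module.length R (LinearMap.ker f) < ⊤) (hcoker : Module.length R (M' ⧸ LinearMap.range f) < ⊤) :
    herbrand R φ ψ = herbrand R φ' ψ' := by
  have eφ : ∀ x, φ' (f x) = f (φ x) := fun x => LinearMap.congr_fun cφ x
  have eψ : ∀ x, ψ' (f x) = f (ψ x) := fun x => LinearMap.congr_fun cψ x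
  have kφ : ∀ x ∈ LinearMap.ker f, φ x ∈ LinearMap.ker f := fun x hx => by
    rw [LinearMap.mem_ker, ← eφ, LinearMap.mem_ker.mp hx, map_zero]
  have kψ : ∀ x ∈ LinearMap.ker f, ψ x ∈ LinearMap.ker f := fun x hx => by
    rw [LinearMap.mem_ker, ← eψ, LinearMap.mem_ker.mp hx, map_zero]
  have iφ : ∀ x ∈ LinearMap.range f, φ' x ∈ LinearMap.range f := by rintro _ ⟨x, rfl⟩; exact ⟨φ x, (eφ x).symm⟩
  have iψ : ∀ x ∈ LinearMap.range f, ψ' x ∈ LinearMap.range f := by rintro _ ⟨x, rfl⟩; exact ⟨ψ x, (eψ x).symm⟩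
  have qφ : LinearMap.range f ≤ (LinearMap.range f).comap φ' := fun x hx => iφ x hx
  have qψ : LinearMap.range f ≤ (LinearMap.range f).comap ψ' := fun x hx => iψ x hx
  have hK : IsPeriodic (φ.restrict kφ) (ψ.restrict kψ) :=
    ⟨LinearMap.ext fun x => Subtype.ext (LinearMap.congr_fun h.1 (x : M)),
      LinearMap.ext fun x => Subtype.ext (LinearMap.congr_fun h.2 (x : M))⟩
  have hC : IsPeriodic ((LinearMap.range f).mapQ _ φ' qφ) ((LinearMap.range f).mapQ _ ψ' qψ) := by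
    constructor <;> refine Submodule.linearMap_qext _ (LinearMap.ext fun x => ?_)
    · show Submodule.Quotient.mk (φ' (ψ' x)) = 0
      rw [show φ' (ψ' x) = 0 from LinearMap.congr_fun h'.1 x]; rfl
    · show Submodule.Quotient.mk (ψ' (φ' x)) = 0
      rw [show ψ' (φ' x) = 0 from LinearMap.congr_fun h'.2 x]; rfl
  obtain ⟨fK, eK⟩ := finite_length_case _ _ hK hker hker
  obtain ⟨fC, eC⟩ := finite_length_case _ _ hC hcoker hcoker
  rw [sub_self] at eK eC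
  obtain ⟨-, -, fI, e1⟩ := shortExact (φ.restrict kφ) (ψ.restrict kψ) φ ψ (φ'.restrict iφ) (ψ'.restrict iψ) h
    (LinearMap.ker f).subtype (LinearMap.ker f).subtype f.rangeRestrict f.rangeRestrict
    (LinearMap.ext fun _ => rfl) (LinearMap.ext fun _ => rfl)
    (LinearMap.ext fun x => Subtype.ext (eφ x)) (LinearMap.ext fun x => Subtype.ext (eψ x))
    (LinearMap.ker f).injective_subtype (LinearMap.ker f).injective_subtype
    f.surjective_rangeRestrict f.surjective_rangeRestrict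
    (by rw [LinearMap.ker_rangeRestrict, Submodule.range_subtype])
    (by rw [LinearMap.ker_rangeRestrict, Submodule.range_subtype]) (Or.inl ⟨fK, hfin⟩)
  obtain ⟨-, -, -, e2⟩ := shortExact (φ'.restrict iφ) (ψ'.restrict iψ) φ' ψ'
    ((LinearMap.range f).mapQ _ φ' qφ) ((LinearMap.range f).mapQ _ ψ' qψ) h'
    (LinearMap.range f).subtype (LinearMap.range f).subtype (LinearMap.range f).mkQ (LinearMap.range f).mkQ
    (LinearMap.ext fun _ => rfl) (LinearMap.ext fun _ => rfl)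
    (LinearMap.ext fun _ => rfl) (LinearMap.ext fun _ => rfl)
    (LinearMap.range f).injective_subtype (LinearMap.range f).injective_subtype
    (LinearMap.range f).mkQ_surjective (LinearMap.range f).mkQ_surjective
    (by rw [Submodule.ker_mkQ, Submodule.range_subtype])
    (by rw [Submodule.ker_mkQ, Submodule.range_subtype]) (Or.inl ⟨fI, hfin'⟩)
  rw [e1, e2, eK, eC, zero_add, add_zero]

section powers

variable {M : Type v} [AddCommGroup M] [Module R M] (φ : M →ₗ[R] M)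

theorem pow_apply_add (a b : ℕ) (x : M) : (φ ^ (a + b)) x = (φ ^ a) ((φ ^ b) x) := by
  rw [pow_add]; rfl

/-- Map between the modules `ker φ^i / im φ^j` induced by a power of `φ`. -/
theorem powers (n : ℕ) (hn : 0 < n) (hφ : φ ^ n = 0)
    (hfin : Module.length R (perH φ (φ ^ (n - 1))) < ⊤) (i : ℕ) (hi : i ≤ n) :
    FinCoh R (φ ^ i) (φ ^ (n - i)) ∧ herbrand R (φ ^ i) (φ ^ (n - i)) = 0 := by
  have ap : ∀ (a b c : ℕ) (x : M), a + b = c → (φ ^ a) ((φ ^ b) x) = (φ ^ c) x := fun a b c x h => by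
    rw [← h, pow_apply_add]
  have z : ∀ (a : ℕ) (x : M), n ≤ a → (φ ^ a) x = 0 := fun a x h => by
    rw [← ap n (a - n) a x (by omega), hφ]; rfl
  -- `ψ k` is `φ^(n-k)`
  have H1 : Module.length R (perH (φ ^ 1) (φ ^ (n - 1))) < ⊤ := by rwa [pow_one]
  have mapOK : ∀ (i j i' j' k : ℕ), i ≤ i' + k → j' ≤ j + k →
      (∀ x, (φ ^ i) x = 0 → (φ ^ i') ((φ ^ k) x) = 0) ∧
      (∀ y, (φ ^ i) ((φ ^ j) y) = 0 → ∃ y', (φ ^ j') y' = (φ ^ k) ((φ ^ j) y)) := by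
    intro i j i' j' k h1 h2
    refine ⟨fun x hx => ?_, fun y _ => ⟨(φ ^ (k + j - j')) y, ?_⟩⟩
    · rw [ap i' k (i' + k) x rfl, ← ap (i' + k - i) i (i' + k) x (by omega), hx, map_zero]
    · rw [ap j' (k + j - j') (k + j) y (by omega), ap k j (k + j) y rfl]
  let mp : ∀ (i j i' j' k : ℕ), i ≤ i' + k → j' ≤ j + k →
      perH (φ ^ i) (φ ^ j) →ₗ[R] perH (φ ^ i') (φ ^ j') := fun i j i' j' k h1 h2 =>
    perMap _ _ _ _ (φ ^ k) (mapOK i j i' j' k h1 h2).1 (mapOK i j i' j' k h1 h2).2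
  have hmp : ∀ (i j i' j' k : ℕ) (h1 : i ≤ i' + k) (h2 : j' ≤ j + k) x hx,
      mp i j i' j' k h1 h2 (cls _ _ x hx) = cls _ _ ((φ ^ k) x) ((mapOK i j i' j' k h1 h2).1 x hx) :=
    fun _ _ _ _ _ _ _ _ _ => rfl
  -- exactness of the six consecutive maps
  have exA : ∀ i (_h : i + 1 ≤ n),
      LinearMap.ker (mp (i + 1) (n - (i + 1)) 1 (n - 1) i (by omega) (by omega)) =
        LinearMap.range (mp i (n - i) (i + 1) (n - (i + 1)) 0 (by omega) (by omega)) := by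
    intro i hi
    ext w
    obtain ⟨x, hx, rfl⟩ := cls_surj w
    simp only [LinearMap.mem_ker, hmp, cls_eq_zero]
    constructor
    · rintro ⟨y, hy⟩
      have h0 : (φ ^ i) (x - (φ ^ (n - (i + 1))) y) = 0 := by
        rw [map_sub, ap i _ (n - 1) y (by omega), hy, sub_self]
      refine ⟨cls _ _ _ h0, ?_⟩
      simp only [hmp, cls_eq_cls]
      exact ⟨-y, by rw [pow_zero, Module.End.one_apply, map_neg]; abel⟩
    · rintro ⟨w, hw⟩
      obtain ⟨x', hx', rfl⟩ := cls_surj w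
      simp only [hmp, cls_eq_cls] at hw
      obtain ⟨y, hy⟩ := hw
      rw [pow_zero, Module.End.one_apply] at hy
      refine ⟨-y, ?_⟩
      have := congrArg (φ ^ i) hy
      rw [map_sub, hx', ap i _ (n - 1) y (by omega), zero_sub] at this
      rw [map_neg, this, neg_neg]
  have exB : ∀ i (_h : i + 1 ≤ n),
      LinearMap.ker (mp 1 (n - 1) (n - i) i 0 (by omega) (by omega)) =
        LinearMap.range (mp (i + 1) (n - (i + 1)) 1 (n - 1) i (by omega) (by omega)) := by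
    intro i hi
    ext w
    obtain ⟨x, hx, rfl⟩ := cls_surj w
    simp only [LinearMap.mem_ker, hmp, cls_eq_zero]
    constructor
    · rintro ⟨y, hy⟩
      rw [pow_zero, Module.End.one_apply] at hy
      have h0 : (φ ^ (i + 1)) y = 0 := by rw [← ap 1 i (i + 1) y (by omega), hy, hx]
      refine ⟨cls _ _ y h0, ?_⟩
      simp only [hmp, cls_eq_cls]
      exact ⟨0, by rw [map_zero, hy, sub_self]⟩
    · rintro ⟨w, hw⟩
      obtain ⟨x', hx', rfl⟩ := cls_surj w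
      simp only [hmp, cls_eq_cls] at hw
      obtain ⟨y, hy⟩ := hw
      refine ⟨x' - (φ ^ (n - (i + 1))) y, ?_⟩
      rw [map_sub, ap i _ (n - 1) y (by omega), hy, pow_zero, Module.End.one_apply]; abel
  have exC : ∀ i (_h : i + 1 ≤ n),
      LinearMap.ker (mp (n - i) i (n - (i + 1)) (i + 1) 1 (by omega) (by omega)) =
        LinearMap.range (mp 1 (n - 1) (n - i) i 0 (by omega) (by omega)) := by
    intro i hi
    ext w
    obtain ⟨x, hx, rfl⟩ := cls_surj w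
    simp only [LinearMap.mem_ker, hmp, cls_eq_zero]
    constructor
    · rintro ⟨y, hy⟩
      have h0 : (φ ^ 1) (x - (φ ^ i) y) = 0 := by
        rw [map_sub, ap 1 i (i + 1) y (by omega), hy, sub_self]
      refine ⟨cls _ _ _ h0, ?_⟩
      simp only [hmp, cls_eq_cls]
      exact ⟨-y, by rw [pow_zero, Module.End.one_apply, map_neg]; abel⟩
    · rintro ⟨w, hw⟩
      obtain ⟨x', hx', rfl⟩ := cls_surj w
      simp only [hmp, cls_eq_cls] at hw
      obtain ⟨y, hy⟩ := hw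
      rw [pow_zero, Module.End.one_apply] at hy
      refine ⟨-y, ?_⟩
      have := congrArg (⇑(φ ^ 1 : M →ₗ[R] M)) hy
      rw [map_sub, hx', ap 1 _ (i + 1) y (by omega), zero_sub] at this
      rw [map_neg, this, neg_neg]
  have exD : ∀ i (_h : i + 1 ≤ n),
      LinearMap.ker (mp (n - (i + 1)) (i + 1) (n - 1) 1 0 (by omega) (by omega)) =
        LinearMap.range (mp (n - i) i (n - (i + 1)) (i + 1) 1 (by omega) (by omega)) := by
    intro i hi
    ext w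
    obtain ⟨x, hx, rfl⟩ := cls_surj w
    simp only [LinearMap.mem_ker, hmp, cls_eq_zero]
    constructor
    · rintro ⟨y, hy⟩
      rw [pow_zero, Module.End.one_apply] at hy
      have h0 : (φ ^ (n - i)) y = 0 := by rw [← ap (n - (i + 1)) 1 (n - i) y (by omega), hy, hx]
      refine ⟨cls _ _ y h0, ?_⟩
      simp only [hmp, cls_eq_cls]
      exact ⟨0, by rw [map_zero, hy, sub_self]⟩
    · rintro ⟨w, hw⟩
      obtain ⟨x', hx', rfl⟩ := cls_surj w
      simp only [hmp, cls_eq_cls] at hw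
      obtain ⟨y, hy⟩ := hw
      refine ⟨x' - (φ ^ i) y, ?_⟩
      rw [map_sub, ap 1 _ (i + 1) y (by omega), hy, pow_zero, Module.End.one_apply]; abel
  have exE : ∀ i (_h : i + 1 ≤ n),
      LinearMap.ker (mp (n - 1) 1 i (n - i) (n - (i + 1)) (by omega) (by omega)) =
        LinearMap.range (mp (n - (i + 1)) (i + 1) (n - 1) 1 0 (by omega) (by omega)) := by
    intro i hi
    ext w
    obtain ⟨x, hx, rfl⟩ := cls_surj w
    simp only [LinearMap.mem_ker, hmp, cls_eq_zero]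
    constructor
    · rintro ⟨y, hy⟩
      have h0 : (φ ^ (n - (i + 1))) (x - (φ ^ 1) y) = 0 := by
        rw [map_sub, ap _ 1 (n - i) y (by omega), hy, sub_self]
      refine ⟨cls _ _ _ h0, ?_⟩
      simp only [hmp, cls_eq_cls]
      exact ⟨-y, by rw [pow_zero, Module.End.one_apply, map_neg]; abel⟩
    · rintro ⟨w, hw⟩
      obtain ⟨x', hx', rfl⟩ := cls_surj w
      simp only [hmp, cls_eq_cls] at hw
      obtain ⟨y, hy⟩ := hw
      rw [pow_zero, Module.End.one_apply] at hy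
      refine ⟨-y, ?_⟩
      have := congrArg (φ ^ (n - (i + 1))) hy
      rw [map_sub, hx', ap _ 1 (n - i) y (by omega), zero_sub] at this
      rw [map_neg, this, neg_neg]
  have exF : ∀ i (_h : i + 1 ≤ n),
      LinearMap.ker (mp i (n - i) (i + 1) (n - (i + 1)) 0 (by omega) (by omega)) =
        LinearMap.range (mp (n - 1) 1 i (n - i) (n - (i + 1)) (by omega) (by omega)) := by
    intro i hi
    ext w
    obtain ⟨x, hx, rfl⟩ := cls_surj w
    simp only [LinearMap.mem_ker, hmp, cls_eq_zero]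
    constructor
    · rintro ⟨y, hy⟩
      rw [pow_zero, Module.End.one_apply] at hy
      have h0 : (φ ^ (n - 1)) y = 0 := by rw [← ap i (n - (i + 1)) (n - 1) y (by omega), hy, hx]
      refine ⟨cls _ _ y h0, ?_⟩
      simp only [hmp, cls_eq_cls]
      exact ⟨0, by rw [map_zero, hy, sub_self]⟩
    · rintro ⟨w, hw⟩
      obtain ⟨x', hx', rfl⟩ := cls_surj w
      simp only [hmp, cls_eq_cls] at hw
      obtain ⟨y, hy⟩ := hw
      refine ⟨x' - (φ ^ 1) y, ?_⟩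
      rw [map_sub, ap (n - (i + 1)) 1 (n - i) y (by omega), hy, pow_zero, Module.End.one_apply]; abel
  have hzero : Module.length R (perH (φ ^ 0) (φ ^ (n - 0))) = 0 ∧ Module.length R (perH (φ ^ (n - 0)) (φ ^ 0)) = 0 := by
    rw [Module.length_eq_zero_iff, Module.length_eq_zero_iff, subsingleton_iff_forall_eq 0,
      subsingleton_iff_forall_eq 0]
    constructor <;> intro w <;> obtain ⟨x, hx, rfl⟩ := cls_surj w <;> rw [cls_eq_zero]
    · rw [pow_zero, Module.End.one_apply] at hx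
      exact ⟨0, by rw [map_zero, hx]⟩
    · exact ⟨x, by rw [pow_zero, Module.End.one_apply]⟩
  have fins : ∀ i, i ≤ n → Module.length R (perH (φ ^ i) (φ ^ (n - i))) < ⊤ := by
    intro i
    induction i with
    | zero => intro _; rw [hzero.1]; exact ENat.top_pos
    | succ i ih => intro hi; exact lt_top_of_exact _ _ (exA i hi) (ih (by omega)) H1
  have fins' : ∀ i, i ≤ n → Module.length R (perH (φ ^ (n - i)) (φ ^ i)) < ⊤ := fun i hi => by
    have := fins (n - i) (Nat.sub_le _ _)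
    rwa [show n - (n - i) = i by omega] at this
  let e : ℕ → ℤ := fun i => herbrand R (φ ^ i) (φ ^ (n - i))
  have hstep : ∀ i, i + 1 ≤ n → e (i + 1) = e i + e 1 := fun i hi => by
    have := hexagon _ _ _ _ _ _ (exA i hi) (exB i hi) (exC i hi) (exD i hi) (exE i hi) (exF i hi)
      (fins i (by omega)) (fins (i + 1) hi) H1 (fins' i (by omega)) (fins' (i + 1) hi) (fins' 1 hn)
    simp only [e, herbrand]
    linarith
  have hlin : ∀ i, i ≤ n → e i = i * e 1 := by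
    intro i
    induction i with
    | zero =>
      intro _
      simp only [e, herbrand, hzero.1, hzero.2]
      simp
    | succ i ih => intro hi; rw [hstep i hi, ih (by omega)]; push_cast; ring
  have hn0 : e n = 0 := by
    have h1 := hzero.2
    have h2 := hzero.1
    rw [Nat.sub_zero] at h1 h2
    have hk : ∀ k, k = 0 → Module.length R (perH (φ ^ n) (φ ^ k)) = 0 ∧
        Module.length R (perH (φ ^ k) (φ ^ n)) = 0 := by rintro k rfl; exact ⟨h1, h2⟩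
    simp only [e, herbrand]
    rw [(hk (n - n) (Nat.sub_self n)).1, (hk (n - n) (Nat.sub_self n)).2]; simp
  have he1 : e 1 = 0 := by
    have := hlin n le_rfl
    rw [hn0] at this
    exact (mul_eq_zero.mp this.symm).resolve_left (by exact_mod_cast hn.ne')
  refine ⟨⟨fins i hi, fins' i hi⟩, ?_⟩
  show e i = 0
  rw [hlin i hi, he1, mul_zero]

end powers

theorem finiteLength_of_supportDim [IsNoetherianRing R] {N : Type v} [AddCommGroup N] [Module R N]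
    [Module.Finite R N] (h : Module.supportDim R N ≤ 0) : Module.length R N < ⊤ := by
  rw [Module.supportDim_eq_ringKrullDim_quotient_annihilator] at h
  haveI : Ring.KrullDimLE 0 (R ⧸ Module.annihilator R N) := Ring.krullDimLE_iff.mpr (by simpa using h)
  haveI : IsArtinianRing (R ⧸ Module.annihilator R N) := isArtinianRing_iff_krullDimLE_zero.mpr inferInstance
  letI : Module (R ⧸ Module.annihilator R N) N := Module.IsTorsionBySet.module
    (Module.isTorsionBySet_annihilator R N)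
  haveI : IsScalarTower R (R ⧸ Module.annihilator R N) N := Module.IsTorsionBySet.isScalarTower _
  rw [Module.length_eq_of_surjective (S := R) (R := R ⧸ Module.annihilator R N) Ideal.Quotient.mk_surjective,
    lt_top_iff_ne_top, Module.length_ne_top_iff, isFiniteLength_iff_isNoetherian_isArtinian]
  haveI : Module.Finite (R ⧸ Module.annihilator R N) N := Module.Finite.of_restrictScalars_finite R _ N
  exact ⟨inferInstance, inferInstance⟩

open scoped Pointwise in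
theorem finite_ker_coker [IsNoetherianRing R] [IsLocalRing R] {M : Type v} [AddCommGroup M] [Module R M]
    [Module.Finite R M] (x : R) (hx : Module.supportDim R (M ⧸ x • (⊤ : Submodule R M)) ≤ 0)
    (L : Submodule R M) :
    Module.length R (LinearMap.ker (x • LinearMap.id : L →ₗ[R] L)) < ⊤ ∧
      Module.length R (L ⧸ LinearMap.range (x • LinearMap.id : L →ₗ[R] L)) < ⊤ := by
  have key : ∀ (N : Type v) [AddCommGroup N] [Module R N] [Module.Finite R N],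
      Module.support R N ⊆ Module.support R M → (∀ z : N, x • z = 0) → Module.length R N < ⊤ := by
    intro N _ _ _ hs hx0
    refine finiteLength_of_supportDim (le_trans ?_ hx)
    refine Order.krullDim_le_of_strictMono (fun a => ⟨a.1, ?_⟩) (fun {_ _} lt => lt)
    have hq : Module.support R (M ⧸ x • (⊤ : Submodule R M)) =
        Module.support R M ∩ PrimeSpectrum.zeroLocus {x} := Module.support_quotSMulTop x
    rw [hq]
    refine ⟨hs a.2, ?_⟩
    have ha : (a.1 : PrimeSpectrum R) ∈ PrimeSpectrum.zeroLocus (Module.annihilator R N : Set R) :=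
      Module.support_eq_zeroLocus (R := R) (M := N) ▸ a.2
    rw [PrimeSpectrum.mem_zeroLocus, Set.singleton_subset_iff]
    exact ha (Module.mem_annihilator.mpr hx0)
  have hL : Module.support R L ⊆ Module.support R M := Module.support_subset_of_injective _ L.injective_subtype
  constructor
  · refine key _ ((Module.support_subset_of_injective _ (Submodule.injective_subtype _)).trans hL) fun z => ?_
    exact Subtype.ext z.2
  · refine key _ ((Module.support_subset_of_surjective _ (Submodule.mkQ_surjective _)).trans hL) fun z => ?_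
    obtain ⟨z, rfl⟩ := Submodule.mkQ_surjective _ z
    rw [← map_smul, Submodule.mkQ_apply, Submodule.Quotient.mk_eq_zero]
    exact ⟨z, rfl⟩

open scoped Pointwise in
theorem smul_left_aux [IsNoetherianRing R] [IsLocalRing R] {M : Type v} [AddCommGroup M] [Module R M]
    [Module.Finite R M] (φ ψ : M →ₗ[R] M) (hper : IsPeriodic φ ψ) (hfin : FinCoh R φ ψ) (x : R)
    (hx : Module.supportDim R (M ⧸ x • (⊤ : Submodule R M)) ≤ 0) :
    FinCoh R (x • φ) ψ ∧ herbrand R (x • φ) ψ = herbrand R φ ψ -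
      herbrand R (0 : ↥(LinearMap.range φ) →ₗ[R] ↥(LinearMap.range φ)) (x • LinearMap.id) := by
  set L := LinearMap.range φ with hL
  obtain ⟨fk, fc⟩ := finite_ker_coker x hx L
  let θ : L →ₗ[R] L := x • LinearMap.id
  have hθ : ∀ l : L, θ l = x • l := fun _ => rfl
  -- first cohomology
  have a1 : ∀ m, φ m = 0 → (x • φ) (LinearMap.id (R := R) m) = 0 := fun m hm => by simp [hm]
  have b1 : ∀ y, φ (ψ y) = 0 → ∃ y', ψ y' = LinearMap.id (R := R) (ψ y) := fun y _ => ⟨y, rfl⟩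
  let i₁ : perH φ ψ →ₗ[R] perH (x • φ) ψ := perMap _ _ _ _ LinearMap.id a1 b1
  let p₁ : perH (x • φ) ψ →ₗ[R] LinearMap.ker θ := Submodule.liftQ _
    (((φ ∘ₗ (LinearMap.ker (x • φ)).subtype).codRestrict L fun m => LinearMap.mem_range_self _ _).codRestrict
      (LinearMap.ker θ) fun m => Subtype.ext m.2) (by
      rintro ⟨m, hm⟩ ⟨y, rfl⟩
      exact Subtype.ext (Subtype.ext (LinearMap.congr_fun hper.1 y)))
  have hp₁ : Function.Surjective p₁ := by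
    rintro ⟨⟨_, m, rfl⟩, hl⟩
    have hm : (x • φ) m = 0 := congrArg Subtype.val (LinearMap.mem_ker.mp hl)
    exact ⟨cls _ _ m hm, rfl⟩
  have hi₁ : Function.Injective i₁ := by
    rw [injective_iff_map_eq_zero]
    intro w hw
    obtain ⟨m, hm, rfl⟩ := cls_surj w
    rw [perMap_cls, cls_eq_zero] at hw
    exact cls_eq_zero.mpr hw
  have he₁ : Function.Exact i₁ p₁ := by
    intro w
    obtain ⟨m, hm, rfl⟩ := cls_surj w
    constructor
    · intro h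
      have h0 : φ m = 0 := congrArg (fun t : LinearMap.ker θ => ((t : L) : M)) h
      exact ⟨cls _ _ m h0, rfl⟩
    · rintro ⟨w', hw'⟩
      obtain ⟨m', hm', rfl⟩ := cls_surj w'
      rw [← hw']
      exact Subtype.ext (Subtype.ext hm')
  have eA := Module.length_eq_add_of_exact i₁ p₁ hi₁ hp₁ he₁
  -- second cohomology
  have hle : L ≤ LinearMap.ker ψ := LinearMap.range_le_ker_iff.mpr hper.2
  let i₂ : (L ⧸ LinearMap.range θ) →ₗ[R] perH ψ (x • φ) := Submodule.mapQ _ _ (Submodule.inclusion hle) (by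
    rintro _ ⟨⟨_, m, rfl⟩, rfl⟩
    exact ⟨m, rfl⟩)
  have a2 : ∀ m, ψ m = 0 → ψ (LinearMap.id (R := R) m) = 0 := fun m hm => hm
  have b2 : ∀ y, ψ ((x • φ) y) = 0 → ∃ y', φ y' = LinearMap.id (R := R) ((x • φ) y) := fun y _ =>
    ⟨x • y, map_smul _ _ _⟩
  let p₂ : perH ψ (x • φ) →ₗ[R] perH ψ φ := perMap _ _ _ _ LinearMap.id a2 b2
  have hp₂ : Function.Surjective p₂ := fun w => by
    obtain ⟨m, hm, rfl⟩ := cls_surj w
    exact ⟨cls _ _ m hm, rfl⟩
  have hi₂ : Function.Injective i₂ := by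
    rw [injective_iff_map_eq_zero]
    intro w hw
    obtain ⟨l, rfl⟩ := Submodule.mkQ_surjective _ w
    obtain ⟨m, hm⟩ := (cls_eq_zero (φ := ψ) (ψ := x • φ) (x := (l : M)) (hx := hle l.2)).mp hw
    rw [Submodule.mkQ_apply, Submodule.Quotient.mk_eq_zero]
    exact ⟨⟨φ m, LinearMap.mem_range_self _ _⟩, Subtype.ext hm⟩
  have he₂ : Function.Exact i₂ p₂ := by
    intro w
    obtain ⟨m, hm, rfl⟩ := cls_surj w
    rw [perMap_cls, cls_eq_zero]
    constructor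
    · rintro ⟨y, hy⟩
      refine ⟨Submodule.Quotient.mk ⟨m, ?_⟩, rfl⟩
      exact ⟨y, hy⟩
    · rintro ⟨w', hw'⟩
      obtain ⟨l, rfl⟩ := Submodule.mkQ_surjective _ w'
      obtain ⟨y, hy⟩ := (cls_eq_cls (φ := ψ) (ψ := x • φ) (x := (l : M)) (x' := m) (hx := hle l.2)).mp hw'
      obtain ⟨y₀, hy₀⟩ := l.2
      refine ⟨y₀ - x • y, ?_⟩
      rw [map_sub, hy₀, map_smul, show x • φ y = (l : M) - m from hy]
      simp
  have eB := Module.length_eq_add_of_exact i₂ p₂ hi₂ hp₂ he₂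
  have f1 : Module.length R (perH (x • φ) ψ) < ⊤ := by rw [eA]; exact ENat.add_lt_top.mpr ⟨hfin.1, fk⟩
  have f2 : Module.length R (perH ψ (x • φ)) < ⊤ := by rw [eB]; exact ENat.add_lt_top.mpr ⟨fc, hfin.2⟩
  refine ⟨⟨f1, f2⟩, ?_⟩
  have c1 : Module.length R (perH (0 : L →ₗ[R] L) θ) = Module.length R (L ⧸ LinearMap.range θ) := by
    have h1 := length_perH_eq (0 : L →ₗ[R] L) θ (LinearMap.zero_comp _)
    let e : (LinearMap.ker (0 : L →ₗ[R] L)) ≃ₗ[R] L := (LinearEquiv.ofEq _ _ LinearMap.ker_zero).trans Submodule.topEquiv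
    refine LinearEquiv.length_eq ?_
    exact Submodule.Quotient.equiv _ _ e (by
      ext z
      constructor
      · rintro ⟨w, hw, rfl⟩; exact hw
      · intro hz; exact ⟨e.symm z, hz, e.apply_symm_apply z⟩)
  have c2 : Module.length R (perH θ (0 : L →ₗ[R] L)) = Module.length R (LinearMap.ker θ) := by
    have h1 := length_perH_eq θ (0 : L →ₗ[R] L) (LinearMap.comp_zero _)
    have h2 : Module.length R (LinearMap.range (0 : L →ₗ[R] L)) = 0 := by
      rw [LinearMap.range_zero]; exact Module.length_bot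
    rw [h2, zero_add] at h1
    exact h1.symm
  simp only [herbrand]
  rw [eA, eB, c1, c2, ENat.toNat_add hfin.1.ne fk.ne, ENat.toNat_add fc.ne hfin.2.ne]
  push_cast; ring

open scoped Pointwise in
theorem smul_left [IsNoetherianRing R] [IsLocalRing R] {M : Type v} [AddCommGroup M] [Module R M]
    [Module.Finite R M] (φ ψ : M →ₗ[R] M) (hper : IsPeriodic φ ψ) (hfin : FinCoh R φ ψ) (x : R)
    (hx : Module.supportDim R (M ⧸ x • (⊤ : Submodule R M)) ≤ 0) :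
    (FinCoh R (x • φ) ψ ∧ herbrand R (x • φ) ψ = herbrand R φ ψ -
      herbrand R (0 : ↥(LinearMap.range φ) →ₗ[R] ↥(LinearMap.range φ)) (x • LinearMap.id)) ∧
    (FinCoh R φ (x • ψ) ∧ herbrand R φ (x • ψ) = herbrand R φ ψ +
      herbrand R (0 : ↥(LinearMap.range ψ) →ₗ[R] ↥(LinearMap.range ψ)) (x • LinearMap.id)) := by
  refine ⟨smul_left_aux φ ψ hper hfin x hx, ?_⟩
  obtain ⟨hf, he⟩ := smul_left_aux ψ φ ⟨hper.2, hper.1⟩ ⟨hfin.2, hfin.1⟩ x hx
  refine ⟨⟨hf.2, hf.1⟩, ?_⟩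
  simp only [herbrand] at he ⊢
  linarith

end Groth.Agent.CycAlg8
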